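import Cfsg.Agent.B84H.D

/-! # The transfer character under a weaker hypothesis -/

set_option autoImplicit false
set_option linter.unusedSectionVars false

namespace Cfsg.Agent.B85D

open Cfsg Cfsg.Agent.GT Cfsg.Agent.BS Cfsg.Agent.Char Cfsg.Agent.B84C Cfsg.Agent.B84H Subgroup
open scoped Classical ComplexConjugate

variable {G : Type*} [Group G] [Fintype G] {t u g w v : G}

/-- The transfer character. -/
theorem lam (h : HS t u g w v) (v1 : v ≠ 1) (hm : ¬ orderOf v * orderOf v ∣ Nat.card C1[v]) :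
    ∃ a ∈ zpowers v, a ≠ 1 ∧ ∃ l : C1[v] →* ℂˣ,
    (∀ y, l y ≠ 1 → a ∈ zpowers y.1) ∧ l ⟨v, self_mem_cent1 v⟩ ^ 2 ≠ 1 ∧
    ∀ y y' : C1[v], y'.1 = w * y * w⁻¹ → l y' = (l y)⁻¹ := by
  have le := zpowers_le.2 (self_mem_cent1 v)
  set V := (zpowers v).subgroupOf C1[v]
  have key : ∀ (y : C1[v]) (k : ℕ) (c : C1[v]), c⁻¹ * y ^ k * c ∈ V → c⁻¹ * y ^ k * c = y ^ k := fun y k c e => by
    have : Commute (c⁻¹ * y ^ k * c) c := Subtype.ext (zc (mem_cent1.1 c.2).symm (mem_subgroupOf.1 e))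
    rw [← mul_left_inj c, this.eq]; group
  have mV := fun y => MonoidHom.transfer_eq_pow_aux y (key y)
  have iV := V.card_mul_index
  rw [card_subgroupOf le, Nat.card_zpowers] at iV
  obtain ⟨r, hr, d1⟩ := Nat.exists_prime_and_dvd (n := orderOf (v ^ V.index)) fun e => hm
    (iV ▸ Nat.mul_dvd_mul_left _ (orderOf_dvd_of_pow_eq_one (orderOf_eq_one_iff.1 e)))
  obtain ⟨j, k, d2, e⟩ := Nat.exists_eq_pow_mul_and_not_dvd (orderOf_pos v).ne' r hr.ne_one
  obtain ⟨a, ha, oa⟩ := exists_mem_orderOf_eq (H := zpowers v) hr (by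
    rw [Nat.card_zpowers]; exact d1.trans (orderOf_pow_dvd _))
  let z : zpowers v := ⟨v ^ V.index, npow_mem_zpowers v _⟩
  obtain ⟨μ, hμ⟩ := IsCyclic.exists_apply_ne_one (G' := ℂˣ) (G := zpowers v) ⟨_, (Complex.isPrimitiveRoot_exp _
    Nat.card_pos.ne').isUnit_unit' Nat.card_pos.ne'⟩ (a := (z ^ k) ^ 2) fun n =>
      d2 (d1.trans (orderOf_dvd_of_pow_eq_one (h.sq1 (z ^ k).2 (by rw [← sq]; exact congrArg Subtype.val n))))
  have L : ∀ y, MonoidHom.transfer ((μ.comp (subgroupOfEquivOfLe le).toMonoidHom) ^ k) y =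
      μ (⟨y.1 ^ V.index, mV y⟩ ^ k) := fun y => by rw [MonoidHom.transfer_eq_pow _ y (key y), map_pow]; rfl
  refine ⟨a, ha, fun n => hr.ne_one (by rw [← oa, n, orderOf_one]), MonoidHom.transfer _, fun y n => ?_,
    by rw [L, ← map_pow]; exact hμ, fun y y' n => ?_⟩
  · have n1 : (y.1 ^ V.index) ^ k ≠ 1 := fun e => n (by rw [L, ← map_one μ]; exact congrArg μ (Subtype.ext e))
    have m : (y.1 ^ V.index) ^ k ∈ zpowers v := pow_mem (mV y) k
    have o : orderOf ((y.1 ^ V.index) ^ k) ∣ r ^ j := orderOf_dvd_of_pow_eq_one (by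
      rw [← pow_mul, mul_comm, ← e]; exact orderOf_dvd_iff_pow_eq_one.1 (orderOf_dvd_of_mem_zpowers (mV y)))
    obtain ⟨b, hb, ob⟩ := exists_mem_orderOf_eq (H := zpowers ((y.1 ^ V.index) ^ k)) hr (by
      rw [Nat.card_zpowers]
      obtain ⟨i, -, e⟩ := (Nat.dvd_prime_pow hr).1 o
      exact e ▸ dvd_pow_self r (by rintro rfl; exact n1 (orderOf_eq_one_iff.1 e)))
    exact zpowers_le.2 (zpowers_le.2 (pow_mem (npow_mem_zpowers _ _) k) hb)
      (zp_uniq hr.pos ha (zpowers_le.2 m hb) oa ob)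
  · rw [L, L, ← map_inv, ← inv_pow]
    congr 2
    exact Subtype.ext (show y'.1 ^ V.index = _ by rw [n, conj_pow]; exact zi h.vw (mV y))

theorem theta (h : HS t u g w v) (cj : ∀ s : G, s * s = 1 → s ≠ 1 → IsConj t s) (v1 : v ≠ 1)
    (hm : ¬ orderOf v * orderOf v ∣ Nat.card C1[v]) :
    ∃ a ∈ zpowers v, a ≠ 1 ∧ ∃ Θ : G → ℂ, IsGeneralizedCharacter G Θ ∧ ⟪Θ, Θ⟫ = 3 ∧ ⟪Θ, fun _ => 1⟫ = 1 ∧
      Θ 1 = 0 ∧ Θ t = 0 ∧ (∀ Ψ, IsClassFunction G Ψ → (∀ y, Ψ y ≠ 0 → a ∉ zpowers y) → ⟪Θ, Ψ⟫ = 0) ∧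
      ∃ j : ℕ, cZ t Θ * Nat.card C1[v] = Nat.card G * (orderOf v * j) ^ 2 := by
  obtain ⟨a, ha, a1, l, l1, l2, l3⟩ := lam h v1 hm
  have cen := h.cen ha a1
  have aa : a ≠ a⁻¹ := fun e => a1 (h.sq1 ha (mul_eq_one_iff_eq_inv.2 e))
  have wa := zi h.vw ha
  have xw : ∀ x, x * a * x⁻¹ = a⁻¹ → x * w ∈ C1[v] := fun x e => cen ▸ mem_cent1.2 (TT.commute_iff_conj.2 (by
    rw [show x * w * a * (x * w)⁻¹ = x * (w * a * w⁻¹) * x⁻¹ by group, wa, ← conj_inv, e, inv_inv]))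
  have s0 : ∀ y, om l y ≠ 0 → a ∈ zpowers y.1 := fun y e => l1 y fun n => e (by simp [om, ch, n])
  have lv : l ≠ 1 ∧ l ≠ l⁻¹ := ⟨fun e => l2 (by simp [e]), fun e => l2 (by
    rw [sq]; nth_rewrite 1 [e]; simp)⟩
  have val : ∀ y : C1[v], om l y ≠ 0 →
      indFun C1[v] (om l) y = (om l + om l⁻¹) y := fun y hy => by
    have k : ∀ x, extendByZero C1[v] (om l) (x⁻¹ * y * x) =
        (if x ∈ C1[v] then 1 else 0) * om l y +
          (if x * w ∈ C1[v] then 1 else 0) * om l⁻¹ y := fun x => by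
      by_cases e1 : x ∈ C1[v]
      · rw [if_pos e1, if_neg, extendByZero_of_mem _ _ (mul_mem (mul_mem (inv_mem e1) y.2) e1), one_mul, zero_mul,
          add_zero]
        · exact ((ch_virt 1).sub (ch_virt l)).isClassFunction.conj' y ⟨x, e1⟩
        · rw [mul_mem_cancel_left e1, ← cen]
          exact fun e => aa ((TT.commute_iff_conj.1 (mem_cent1.1 e)).symm.trans wa)
      by_cases e2 : x * w ∈ C1[v]
      · have m : x⁻¹ * y * x ∈ C1[v] := by
          refine mem_cent1.2 ((TT.commute_conj_iff (w⁻¹)).1 ?_)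
          rw [inv_inv, show w⁻¹ * v * w = v⁻¹ by rw [← inv_inj, inv_inv, ← mul_right_inj w, ← mul_left_inj w⁻¹, h.vw]; group,
            show w⁻¹ * (x⁻¹ * y * x) * w = (x * w)⁻¹ * y * (x * w) by group]
          exact (show Commute _ v from mem_cent1.1 (mul_mem (mul_mem (inv_mem e2) y.2) e2)).inv_right
        have := l3 ((⟨_, e2⟩ : C1[v])⁻¹ * y * ⟨_, e2⟩) ⟨_, m⟩ (by simp [mul_assoc])
        rw [if_neg e1, if_pos e2, extendByZero_of_mem _ _ m]
        simp [om, ch, this]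
      rw [if_neg e1, if_neg e2, zero_mul, zero_mul, add_zero]
      by_contra n
      have m : x⁻¹ * y * x ∈ C1[v] := by_contra fun m => n (extendByZero_of_not_mem _ _ m)
      rw [extendByZero_of_mem _ _ m] at n
      have b : x * a * x⁻¹ ∈ zpowers y.1 := by simpa [mul_assoc] using zp_conj x⁻¹ (s0 _ n)
      have : x ∈ N[zpowers a] := mem_normalizer_fintype fun z hz => by
        obtain ⟨k, rfl⟩ := hz
        rw [← conj_zpow]
        exact zpow_mem (zp_uniq (orderOf_pos a) b (s0 y hy) (orderOf_conj' a x) rfl) k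
      exact (h.fus ha a1 this).elim (fun e => e1 (cen ▸ mem_cent1.2 e)) fun e => e2 (xw x e)
    have c := Cls.BSW.sum_ite_mem C1[v]
    rw [indFun, Finset.sum_congr rfl fun x _ => k x, Finset.sum_add_distrib, ← Finset.sum_mul, ← Finset.sum_mul, c,
      show ∑ x, (if x * w ∈ C1[v] then (1 : ℂ) else 0) = _ from
        (Equiv.sum_comp (Equiv.mulRight w) fun x => if x ∈ C1[v] then (1 : ℂ) else 0).trans c, ← mul_add,
      inv_mul_cancel_left₀ (card_ne_zero_complex _)]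
    rfl
  have vt : IsGeneralizedCharacter G (indFun _ (om l)) := ((ch_virt 1).sub (ch_virt l)).indFun
  refine ⟨a, ha, a1, _, vt, ?_, ?_, ?_, ?_, fun Ψ c s => ?_, ?_⟩
  · rw [ci_indFun_left _ _ vt.isClassFunction, show ⟪_, _⟫ = ⟪om l, om l + om l⁻¹⟫ from ?_]
    · simp only [om, ci_sub_left, ci_add_right, ci_sub_right, ci_ch, if_neg lv.1, if_neg lv.1.symm, if_neg lv.2,
        if_neg (show 1 ≠ l⁻¹ from fun e => lv.1 (by ext y; simpa using DFunLike.congr_fun e y)), if_true]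
      norm_num
    · refine congrArg (_ * ·) (Finset.sum_congr rfl fun y _ => ?_)
      by_cases e : om l y = 0
      · rw [e, zero_mul, zero_mul]
      · simp only [val y e]
  · rw [ci_indFun_left _ _ (isClassFunction_const 1), om, ci_sub_left]
    exact (congrArg₂ (· - ·) (ci_ch 1 1) (ci_ch l 1)).trans (by simp [lv.1])
  · simp [indFun_apply_one, om, ch]
  · refine indFun_eq_zero_of_forall _ fun x hx => by_contra fun e => a1 (h.sq1 ha ?_)
    obtain ⟨k, e⟩ := s0 _ e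
    rw [← e, ← (Commute.refl _).mul_zpow, show x⁻¹ * t * x * (x⁻¹ * t * x) = x⁻¹ * (t * t) * x by group, h.tt]
    simp
  · rw [ci_indFun_left _ _ c, ci_def, Finset.sum_eq_zero fun y _ => ?_, mul_zero]
    by_cases e : om l y = 0
    · rw [e, zero_mul]
    · rw [of_not_not (mt (s y) (not_not.2 (s0 y e))), map_zero, mul_zero]
  let J : Set G := {s | IsConj t s ∧ s * a * s⁻¹ = a⁻¹}
  have inv : ∀ {s}, IsConj t s → s⁻¹ = s := fun e => by
    obtain ⟨c, rfl⟩ := isConj_iff.1 e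
    exact inv_eq_of_mul_eq_one_right (by rw [conj_mul, h.tt, mul_one, mul_inv_cancel])
  have Jv : ∀ s ∈ J, ∀ b ∈ zpowers v, s * b ∈ J := fun s hs b hb => by
    have e : s * b * a * (s * b)⁻¹ = a⁻¹ := by
      rw [← hs.2, mul_assoc s, (zc (zc rfl ha).symm hb).eq]; group
    refine ⟨cj _ ?_ fun n => aa (by simpa [n] using e), e⟩
    have := TT.commute_iff_conj.1 (zc (mem_cent1.1 (xw s hs.2)).symm (inv_mem hb)).symm
    rw [show s * w * b⁻¹ * (s * w)⁻¹ = s * (w * b⁻¹ * w⁻¹) * s⁻¹ by group, zi h.vw (inv_mem hb), inv_inv,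
      inv hs.1] at this
    rw [← mul_assoc, this, inv_mul_cancel]
  obtain ⟨j, hj⟩ : orderOf v ∣ Nat.card J := by
    rw [← Nat.card_zpowers, show J = QuotientGroup.mk ⁻¹' (QuotientGroup.mk '' J : Set (G ⧸ zpowers v)) from ?_,
      QuotientGroup.card_preimage_mk]
    · exact Dvd.intro _ rfl
    refine Set.Subset.antisymm (Set.subset_preimage_image _ _) ?_
    rintro x ⟨s, hs, e⟩
    simpa using Jv s hs _ (QuotientGroup.eq.1 e)
  have k1 : ∀ y : C1[v], om l y * cN t y =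
      ∑ s, (if s ∈ J then 1 else 0) * (om l y * if s⁻¹ * y ∈ J then 1 else 0) := fun y => by
    by_cases e : om l y = 0
    · simp [e]
    rw [cN, Finset.mul_sum]
    refine Finset.sum_congr rfl fun s _ => ?_
    rw [mul_left_comm _ (om l y), cI, cI, ite_zero_mul_ite_zero, ite_zero_mul_ite_zero]
    congr 1
    convert if_congr (Iff.intro (fun n => ?_) fun n : s ∈ J ∧ s⁻¹ * y ∈ J => And.intro n.1.1 n.2.1) rfl rfl
    have := inv n.2
    rw [mul_inv_rev, inv_inv] at this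
    exact ⟨⟨n.1, zi (by rw [mul_inv_eq_iff_eq_mul, this, inv n.1]) (s0 y e)⟩,
      n.2, zi (by rw [mul_inv_rev, inv_inv, mul_assoc, mul_inv_cancel_left, ← this, mul_assoc,
        eq_inv_iff_mul_eq_one.1 (inv n.1).symm, mul_one]) (s0 y e)⟩
  have k2 : ∀ s ∈ J, ∑ y : C1[v], om l y * (if s⁻¹ * y ∈ J then 1 else 0) = Nat.card J := fun s hs => by
    have z : ∑ y : C1[v], ch l y * (if s⁻¹ * y ∈ J then 1 else 0) = 0 := by
      refine (mul_left_eq_self₀.1 (show ch l ⟨v, self_mem_cent1 v⟩ * _ = _ from ?_)).resolve_left fun e =>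
        l2 (by rw [Units.val_eq_one.1 e, one_pow])
      rw [Finset.mul_sum]
      refine Fintype.sum_equiv (Equiv.mulRight ⟨v, self_mem_cent1 v⟩) _ _ fun y => ?_
      rw [← mul_assoc]
      refine congrArg₂ _ (by simp [ch, mul_comm]) (if_congr ⟨fun e => ?_, fun e => ?_⟩ rfl rfl)
      · simpa [mul_assoc] using Jv _ e v (mem_zpowers v)
      · simpa [mul_assoc] using Jv _ e v⁻¹ (inv_mem (mem_zpowers v))
    simp only [om, Pi.sub_apply, sub_mul, Finset.sum_sub_distrib, z, sub_zero]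
    rw [natCard_subtype_eq_sum_ite _ ℂ, ← Equiv.sum_comp (Equiv.mulLeft s⁻¹)]
    refine ((Finset.sum_congr rfl fun y _ => by simp [ch]).trans (sum_subgroup_eq_sum_ite C1[v] fun y =>
      if s⁻¹ * y ∈ J then (1 : ℂ) else 0)).trans (Finset.sum_congr rfl fun x _ =>
        ite_eq_left_iff.2 fun n => (if_neg fun e => n (cen ▸ mem_cent1.2 (TT.commute_iff_conj.2 ?_))).symm)
    rw [show x * a * x⁻¹ = s * (s⁻¹ * x * a * (s⁻¹ * x)⁻¹) * s⁻¹ by group, e.2, ← conj_inv, hs.2, inv_inv]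
  refine ⟨j, ?_⟩
  rw [indFun_eq_ind, cZ_ind, coe_subtype, Finset.sum_congr rfl fun y _ => k1 y, Finset.sum_comm,
    Finset.sum_congr rfl fun s _ => show _ = (if s ∈ J then 1 else 0) * (Nat.card J : ℂ) from ?_, ← Finset.sum_mul,
    ← natCard_subtype_eq_sum_ite, hj]
  · have := card_ne_zero_complex C1[v]
    push_cast; field_simp
  · rw [← Finset.mul_sum]
    split_ifs with e
    · rw [k2 s e]
    · rw [zero_mul, zero_mul]

end Cfsg.Agent.B85D
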