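import Cfsg.Agent.B85C.H
import Cfsg.Agent.B84H.B

/-! # The number of involutions modulo the order of a Sylow `2`-subgroup, unitary case -/

set_option autoImplicit false
set_option linter.unusedSectionVars false

namespace Cfsg.Agent.B85D

open Cfsg Cfsg.Agent.GT Cfsg.Agent.Char Cfsg.Agent.BS Cfsg.Agent.B85C Subgroup Finset
open scoped Classical

variable {H C K X G : Type*} [Group H] [CommGroup C] [CommGroup K] [CommGroup X] [Group G] [Fintype H] [Fintype C]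
  [Fintype K] [Fintype X] [Fintype G] {m : Mo H C K X} {φ : H →* G} {g : G}

theorem two_T (h : Hy m φ g) (q4 : m.q % 4 = 1) {a b : C} {k : ℕ} (e : φ (m.dg (a, b)) ^ 2 ^ k = 1) :
    φ (m.dg (a, b)) ∈ h.q3.ψ.range := by
  have mU : φ (m.dg (a, b)) ^ ((m.q + 1) / 2) ∈ h.q3.ψ.range := by
    have p : ∀ a : C, a ^ ((m.q + 1) / 2) = 1 ∨ a ^ ((m.q + 1) / 2) = m.e := fun a =>
      m.sqC (by rw [← pow_add, show (m.q + 1) / 2 + (m.q + 1) / 2 = m.q + 1 by omega, m.powC])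
    rw [← map_pow, ← map_pow, Prod.pow_mk, h.q3.mem_U, h.t3]
    rcases p a with e | e <;> rcases p b with e' | e' <;> simp [e, e', Prod.mk_one_one]
  exact zpowers_le.2 mU (mem_zpowers_pow_odd ((piNat_single_pow Nat.prime_two k).of_dvd
    (orderOf_dvd_of_pow_eq_one e)) (Nat.odd_iff.2 (by omega)))

theorem card_inv (h : Hy m φ g) :
    #{s ∈ ({s | IsConj (φ (m.dg (m.e, m.e))) s} : Finset G) | Commute (φ (m.dg (m.e, m.e))) s} =
      m.q * (m.q - 1) + 1 := by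
  have Q := h.q3
  have c : #{A : H | IsConj (m.dg (1, m.e)) A} = m.q * (m.q - 1) := by
    have := m.q3
    rw [B84H.card_cl, ← Nat.cast_inj (R := ℂ), m.index_u, Nat.cast_mul, Nat.cast_sub (by omega), Nat.cast_one]
  have d : ∀ B : H, m.det (B * m.dg (1, m.e) * B⁻¹) = m.e := fun B => by simp [m.det_dg]
  rw [← c, ← card_image_of_injOn (f := φ), ← card_insert_of_notMem (a := φ (m.dg (m.e, m.e)))]
  · congr 1
    ext s
    simp only [mem_filter, mem_univ, true_and, mem_insert, mem_image]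
    constructor
    · rintro ⟨e1, e2⟩
      obtain ⟨A, rfl⟩ := h.cent.1 e2.symm
      obtain ⟨c, e⟩ := isConj_iff.1 e1
      exact (h.invol (by rw [← e, conj_mul, Q.tt, mul_one, mul_inv_cancel]) (by simpa [← e] using Q.t1)).imp_right
        fun ⟨B, n⟩ => ⟨_, isConj_iff.2 ⟨B, rfl⟩, by rw [n, map_mul, map_mul, map_inv]⟩
    · rintro (rfl | ⟨A, e, rfl⟩)
      exacts [⟨.refl _, .refl _⟩, ⟨Q.cu.trans (φ.map_isConj e), (h.cent.2 ⟨A, rfl⟩).symm⟩]
  · simp only [mem_filter, mem_univ, true_and, mem_image, isConj_iff]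
    rintro ⟨_, ⟨B, rfl⟩, e⟩
    rw [map_mul, map_mul, map_inv, mul_inv_eq_iff_eq_mul, ← (h.cent.2 ⟨B, rfl⟩).eq, mul_right_inj] at e
    exact Q.ne e
  · intro A hA B hB e
    obtain ⟨A, rfl⟩ := isConj_iff.1 (mem_filter.1 hA).2
    obtain ⟨B, rfl⟩ := isConj_iff.1 (mem_filter.1 hB).2
    exact mul_inv_eq_one.1 (h.ker_det (by rw [map_mul φ, e, map_inv, mul_inv_cancel])
      (by rw [map_mul, map_inv, d, d, mul_inv_cancel]))

theorem odd_ker (h : Hy m φ g) : Odd (Nat.card φ.ker) := Nat.not_even_iff_odd.1 fun e => by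
  obtain ⟨A, hA, o⟩ := exists_mem_orderOf_eq Nat.prime_two (even_iff_two_dvd.1 e)
  have := h.odd_of (A := A) (by rw [show φ A = 1 from hA]; simp)
  rw [o] at this
  exact absurd this (by decide)

/-- (H1) -/
theorem H1 (h : Hy m φ g) (q4 : m.q % 4 = 1) (k : ℕ) (hk : 2 ^ k ∣ m.q - 1) :
    (4 * 2 ^ k : ℤ) ∣ C1[φ (m.dg (m.e, m.e))].index - 1 + m.q * (m.q - 1) := by
  have Q := h.q3
  obtain ⟨S, hS, le⟩ := exists_syl_ge (M := C1[φ (m.dg (m.e, m.e))]) (Q := zpowers (φ (m.dg (m.e, m.e))))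
    Nat.prime_two (PG.isPGroup_zpowers_of_pow_eq_one (k := 1) (by rw [pow_one, sq, Q.tt]))
    (zpowers_le.2 (self_mem_cent1 _))
  have := B84H.two_adic Q.tt Q.t1 (fun s => h.conj_t) (fun s y s1 s2 s3 s4 y1 y2 k e => ?_) (card_inv h)
    (Dvd.dvd.mul_left (by omega) _) (syl_isPGroup Nat.prime_two hS) (le (mem_zpowers _)) hS.le
  · rw [Nat.cast_mul, Nat.cast_sub (by omega), Nat.cast_one] at this
    refine Dvd.dvd.trans ?_ this
    have c := h.card_H
    rw [m.card_H, m.cK] at c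
    have d : 2 ^ (k + 2) ∣ Nat.card C1[φ (m.dg (m.e, m.e))] := (Nat.Coprime.pow_left _ (Nat.coprime_two_left.2
      (odd_ker h))).dvd_of_dvd_mul_right (by
        rw [c, pow_succ', pow_succ']
        exact mul_dvd_mul (by omega) ((mul_dvd_mul (by omega) hk).mul_right _))
    have := hS.dvd_card (piNat_single_pow Nat.prime_two _) d
    rw [pow_add, mul_comm] at this
    exact_mod_cast this
  obtain ⟨A, rfl⟩ := h.cent.1 s4
  obtain ⟨B, n⟩ := (h.invol s1 s2).resolve_left s3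
  have c := TT.commute_iff_conj.1 (h.cent.2 ⟨B, rfl⟩)
  obtain ⟨y, rfl⟩ : ∃ z, y = φ B * z * (φ B)⁻¹ := ⟨(φ B)⁻¹ * y * φ B, by group⟩
  rw [n, TT.commute_conj_iff] at y2
  rw [← c, TT.commute_conj_iff] at y1
  obtain ⟨a, b, rfl⟩ := h.cent_U.1 ⟨y1, y2⟩
  rw [conj_pow, conj_eq_one_iff] at e
  rw [n, ← c, conj_mul]
  rcases Q.mem_U.1 (two_T h q4 e) with e | e | e | e <;> simp [e]

end Cfsg.Agent.B85D
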